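import Cfsg.Agent.Lib.KnownSimple.MultM.HeL.Def0

/-!
# A coset enumeration: the facts
-/

set_option autoImplicit false

namespace Cfsg.Agent.Lib.KnownSimple.MultM.HeL

open Cfsg Cfsg.Spor Cfsg.Agent.Lib.Compute Cfsg.Agent.Lib.KnownSimple.PE Cfsg.Agent.Lib.KnownSimple.Leech
open Cfsg.Agent.Lib.KnownSimple Cfsg.Agent.Lib.KnownSimple.AutRigid Cfsg.Agent.Lib.KnownSimple.Pres

set_option maxHeartbeats 0 in
set_option maxRecDepth 100000 in
theorem fc0_40 : chunk (padB K0 (Cert.factOK C0)) 2584 40 = true := by decide +kernel
set_option maxHeartbeats 0 in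
set_option maxRecDepth 100000 in
theorem fc0_41 : chunk (padB K0 (Cert.factOK C0)) 2584 41 = true := by decide +kernel
set_option maxHeartbeats 0 in
set_option maxRecDepth 100000 in
theorem fc0_42 : chunk (padB K0 (Cert.factOK C0)) 2584 42 = true := by decide +kernel
set_option maxHeartbeats 0 in
set_option maxRecDepth 100000 in
theorem fc0_43 : chunk (padB K0 (Cert.factOK C0)) 2584 43 = true := by decide +kernel
set_option maxHeartbeats 0 in
set_option maxRecDepth 100000 in
theorem fc0_44 : chunk (padB K0 (Cert.factOK C0)) 2584 44 = true := by decide +kernel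
set_option maxHeartbeats 0 in
set_option maxRecDepth 100000 in
theorem fc0_45 : chunk (padB K0 (Cert.factOK C0)) 2584 45 = true := by decide +kernel
set_option maxHeartbeats 0 in
set_option maxRecDepth 100000 in
theorem fc0_46 : chunk (padB K0 (Cert.factOK C0)) 2584 46 = true := by decide +kernel
set_option maxHeartbeats 0 in
set_option maxRecDepth 100000 in
theorem fc0_47 : chunk (padB K0 (Cert.factOK C0)) 2584 47 = true := by decide +kernel
set_option maxHeartbeats 0 in
set_option maxRecDepth 100000 in
theorem fc0_48 : chunk (padB K0 (Cert.factOK C0)) 2584 48 = true := by decide +kernel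
set_option maxHeartbeats 0 in
set_option maxRecDepth 100000 in
theorem fc0_49 : chunk (padB K0 (Cert.factOK C0)) 2584 49 = true := by decide +kernel
set_option maxHeartbeats 0 in
set_option maxRecDepth 100000 in
theorem fc0_50 : chunk (padB K0 (Cert.factOK C0)) 2584 50 = true := by decide +kernel
set_option maxHeartbeats 0 in
set_option maxRecDepth 100000 in
theorem fc0_51 : chunk (padB K0 (Cert.factOK C0)) 2584 51 = true := by decide +kernel
set_option maxHeartbeats 0 in
set_option maxRecDepth 100000 in
theorem fc0_52 : chunk (padB K0 (Cert.factOK C0)) 2584 52 = true := by decide +kernel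
set_option maxHeartbeats 0 in
set_option maxRecDepth 100000 in
theorem fc0_53 : chunk (padB K0 (Cert.factOK C0)) 2584 53 = true := by decide +kernel
set_option maxHeartbeats 0 in
set_option maxRecDepth 100000 in
theorem fc0_54 : chunk (padB K0 (Cert.factOK C0)) 2584 54 = true := by decide +kernel
set_option maxHeartbeats 0 in
set_option maxRecDepth 100000 in
theorem fc0_55 : chunk (padB K0 (Cert.factOK C0)) 2584 55 = true := by decide +kernel
set_option maxHeartbeats 0 in
set_option maxRecDepth 100000 in
theorem fc0_56 : chunk (padB K0 (Cert.factOK C0)) 2584 56 = true := by decide +kernel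
set_option maxHeartbeats 0 in
set_option maxRecDepth 100000 in
theorem fc0_57 : chunk (padB K0 (Cert.factOK C0)) 2584 57 = true := by decide +kernel
set_option maxHeartbeats 0 in
set_option maxRecDepth 100000 in
theorem fc0_58 : chunk (padB K0 (Cert.factOK C0)) 2584 58 = true := by decide +kernel
set_option maxHeartbeats 0 in
set_option maxRecDepth 100000 in
theorem fc0_59 : chunk (padB K0 (Cert.factOK C0)) 2584 59 = true := by decide +kernel
set_option maxHeartbeats 0 in
set_option maxRecDepth 100000 in
theorem fc0_60 : chunk (padB K0 (Cert.factOK C0)) 2584 60 = true := by decide +kernel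
set_option maxHeartbeats 0 in
set_option maxRecDepth 100000 in
theorem fc0_61 : chunk (padB K0 (Cert.factOK C0)) 2584 61 = true := by decide +kernel
set_option maxHeartbeats 0 in
set_option maxRecDepth 100000 in
theorem fc0_62 : chunk (padB K0 (Cert.factOK C0)) 2584 62 = true := by decide +kernel
set_option maxHeartbeats 0 in
set_option maxRecDepth 100000 in
theorem fc0_63 : chunk (padB K0 (Cert.factOK C0)) 2584 63 = true := by decide +kernel
set_option maxHeartbeats 0 in
set_option maxRecDepth 100000 in
theorem fc0_64 : chunk (padB K0 (Cert.factOK C0)) 2584 64 = true := by decide +kernel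
set_option maxHeartbeats 0 in
set_option maxRecDepth 100000 in
theorem fc0_65 : chunk (padB K0 (Cert.factOK C0)) 2584 65 = true := by decide +kernel
set_option maxHeartbeats 0 in
set_option maxRecDepth 100000 in
theorem fc0_66 : chunk (padB K0 (Cert.factOK C0)) 2584 66 = true := by decide +kernel
set_option maxHeartbeats 0 in
set_option maxRecDepth 100000 in
theorem fc0_67 : chunk (padB K0 (Cert.factOK C0)) 2584 67 = true := by decide +kernel
set_option maxHeartbeats 0 in
set_option maxRecDepth 100000 in
theorem fc0_68 : chunk (padB K0 (Cert.factOK C0)) 2584 68 = true := by decide +kernel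
set_option maxHeartbeats 0 in
set_option maxRecDepth 100000 in
theorem fc0_69 : chunk (padB K0 (Cert.factOK C0)) 2584 69 = true := by decide +kernel
set_option maxHeartbeats 0 in
set_option maxRecDepth 100000 in
theorem fc0_70 : chunk (padB K0 (Cert.factOK C0)) 2584 70 = true := by decide +kernel
set_option maxHeartbeats 0 in
set_option maxRecDepth 100000 in
theorem fc0_71 : chunk (padB K0 (Cert.factOK C0)) 2584 71 = true := by decide +kernel
set_option maxHeartbeats 0 in
set_option maxRecDepth 100000 in
theorem fc0_72 : chunk (padB K0 (Cert.factOK C0)) 2584 72 = true := by decide +kernel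

end Cfsg.Agent.Lib.KnownSimple.MultM.HeL
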